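import Groth.Prelude.Def_FSch5
import Groth.Agent.Lib.Helper2.FSchAdic

/-!
# Restriction of formal systems to opens (lead)
-/

set_option autoImplicit false
universe u

open CategoryTheory CategoryTheory.Limits AlgebraicGeometry

namespace Groth.Agent.LD.FRestr

/-- `resLE` onto the exact preimage is a base change. -/
theorem isPullback_resLE {X Y : Scheme.{u}} (g : X ⟶ Y) (V : Y.Opens) (V' : X.Opens) (heq : g ⁻¹ᵁ V = V')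
    (e : V' ≤ g ⁻¹ᵁ V) : IsPullback (g.resLE V V' e) V'.ι V.ι g := by
  subst heq
  rw [Scheme.Hom.resLE_eq_morphismRestrict]
  exact isPullback_morphismRestrict g V

theorem isAdicHom_restrictOpenι (𝔛 : FSch.Sys.{u}) (h : 𝔛.IsFormal) (U : (𝔛.X 0).Opens) :
    FSch.IsAdicHom (𝔛.restrictOpenι h U) := fun n =>
  isPullback_resLE (𝔛.ι n) _ _ (𝔛.lvU_succ h n U) _

theorem isAdicHom_comp {𝔛 𝔜 ℨ : FSch.Sys.{u}} (f : 𝔛 ⟶ 𝔜) (g : 𝔜 ⟶ ℨ) (hf : FSch.IsAdicHom f)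
    (hg : FSch.IsAdicHom g) : FSch.IsAdicHom (f ≫ g) := fun n =>
  (hf n).paste_vert (hg n)

theorem isAdicHom_of_comp {𝔛 𝔜 ℨ : FSch.Sys.{u}} (f : 𝔛 ⟶ 𝔜) (g : 𝔜 ⟶ ℨ) (hfg : FSch.IsAdicHom (f ≫ g))
    (hg : FSch.IsAdicHom g) : FSch.IsAdicHom f := fun n =>
  IsPullback.of_bot (hfg n) ((f : FSch.Hom 𝔛 𝔜).comm n).symm (hg n)

theorem isAdicHom_restrictOpen {𝔛 𝔜 : FSch.Sys.{u}} (f : 𝔛 ⟶ 𝔜) (h𝔛 : 𝔛.IsFormal) (h𝔜 : 𝔜.IsFormal)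
    (hf : FSch.IsAdicHom f) (U : (𝔜.X 0).Opens) :
    FSch.IsAdicHom (FSch.Hom.restrictOpen f h𝔛 h𝔜 U) := by
  refine isAdicHom_of_comp _ (𝔜.restrictOpenι h𝔜 U) ?_ (isAdicHom_restrictOpenι 𝔜 h𝔜 U)
  rw [FSch.Hom.restrictOpen_ι]
  exact isAdicHom_comp _ _ (isAdicHom_restrictOpenι 𝔛 h𝔛 _) hf

/-- Level squares of a restricted morphism are cartesian over the original ones. -/
theorem isPullback_restrictOpen_app {𝔛 𝔜 : FSch.Sys.{u}} (f : 𝔛 ⟶ 𝔜) (h𝔛 : 𝔛.IsFormal) (h𝔜 : 𝔜.IsFormal)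
    (U : (𝔜.X 0).Opens) (n : ℕ) :
    IsPullback ((FSch.Hom.restrictOpen f h𝔛 h𝔜 U : FSch.Hom _ _).app n)
      (𝔛.lvU h𝔛 n ((f : FSch.Hom 𝔛 𝔜).app 0 ⁻¹ᵁ U)).ι (𝔜.lvU h𝔜 n U).ι ((f : FSch.Hom 𝔛 𝔜).app n) := by
  rw [FSch.Hom.restrictOpen_app]
  exact isPullback_resLE _ _ _ (FSch.Hom.lvU_preimage f h𝔛 h𝔜 n U) _

/-- A base-change-stable property of a level of `f` passes to the restricted morphism. -/
theorem restrictOpen_app_of {P : MorphismProperty Scheme.{u}} [P.IsStableUnderBaseChange]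
    {𝔛 𝔜 : FSch.Sys.{u}} (f : 𝔛 ⟶ 𝔜) (h𝔛 : 𝔛.IsFormal) (h𝔜 : 𝔜.IsFormal)
    (U : (𝔜.X 0).Opens) (n : ℕ) (hP : P ((f : FSch.Hom 𝔛 𝔜).app n)) :
    P ((FSch.Hom.restrictOpen f h𝔛 h𝔜 U : FSch.Hom _ _).app n) :=
  MorphismProperty.of_isPullback (isPullback_restrictOpen_app f h𝔛 h𝔜 U n).flip hP

end Groth.Agent.LD.FRestr
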